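import Mathlib
import Cfsg.Agent.H206.FieldKill
import Cfsg.Agent.H198.FC.DefsB
import Cfsg.Agent.ClassicalGeometry.HermOrthonormal
set_option linter.all false

-- part: H567/FC/Fld
section
/-!
# S5764 [B-C3U]: finite fields, types of semilinear maps (helper567)
-/

set_option autoImplicit false

namespace Cfsg.Agent.H567.FC

section fld

variable {E : Type*} [Field E] [Finite E]

theorem aut_comm (σ τ : E ≃+* E) (a : E) : σ (τ a) = τ (σ a) := by
  haveI := Cfsg.Agent.H206.FieldKill.isCyclic_aut E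
  letI := IsCyclic.commGroup (α := E ≃+* E)
  have h : σ * τ = τ * σ := mul_comm σ τ
  exact congrArg (fun f : E ≃+* E => f a) h

theorem exists_gen (E : Type*) [Field E] [Finite E] : ∃ γ : E, γ ≠ 0 ∧ ∀ σ : E ≃+* E, σ γ = γ → ∀ a, σ a = a := by
  obtain ⟨u, hu⟩ := IsCyclic.exists_generator (α := Eˣ)
  refine ⟨u, u.ne_zero, fun σ h a => ?_⟩
  rcases eq_or_ne a 0 with rfl | ha
  · exact map_zero σ
  obtain ⟨k, hk⟩ := hu (Units.mk0 a ha)
  have h1 : a = (u : E) ^ k := by
    have h2 := congrArg (Units.val) hk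
    simpa using h2.symm
  rw [h1, map_zpow₀, h]

theorem invol_unique {J τ : E ≃+* E} (hJ : ∀ a, J (J a) = a) (hτ : ∀ a, τ (τ a) = a) (hJ1 : ∃ a, J a ≠ a)
    (hτ1 : ∃ a, τ a ≠ a) : J = τ := by
  classical
  haveI := Cfsg.Agent.H206.FieldKill.isCyclic_aut E
  haveI : Finite (E ≃+* E) := Finite.of_injective (fun f : E ≃+* E => (f : E → E)) DFunLike.coe_injective
  haveI := Fintype.ofFinite (E ≃+* E)
  by_contra hne
  have h := IsCyclic.card_pow_eq_one_le (α := E ≃+* E) (n := 2) (by norm_num)
  have h1 : ({1, J, τ} : Finset (E ≃+* E)) ⊆ Finset.univ.filter fun a : E ≃+* E => a ^ 2 = 1 := by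
    intro x hx
    rw [Finset.mem_filter]
    refine ⟨Finset.mem_univ _, ?_⟩
    simp only [Finset.mem_insert, Finset.mem_singleton] at hx
    rcases hx with rfl | rfl | rfl
    · rw [one_pow]
    · rw [sq]; exact RingEquiv.ext hJ
    · rw [sq]; exact RingEquiv.ext hτ
  have hJ1' : (1 : E ≃+* E) ≠ J := by
    rintro rfl
    obtain ⟨a, ha⟩ := hJ1
    exact ha rfl
  have hτ1' : (1 : E ≃+* E) ≠ τ := by
    rintro rfl
    obtain ⟨a, ha⟩ := hτ1
    exact ha rfl
  have h2 : ({1, J, τ} : Finset (E ≃+* E)).card = 3 := by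
    rw [Finset.card_eq_three]
    exact ⟨1, J, τ, hJ1', hτ1', hne, rfl⟩
  have h3 := (Finset.card_le_card h1).trans h
  omega

variable (K : Type*) [Field K] [Algebra K E]

variable (E) in
theorem exists_frob : ∃ τ : E ≃+* E, (∀ k : K, τ (algebraMap K E k) = algebraMap K E k) ∧
    (∀ c, τ c = c → ∃ k : K, algebraMap K E k = c) ∧
    (∀ c : E, (τ : E → E)^[Module.finrank K E] c = c) := by
  haveI : Finite K := Finite.of_injective _ (FaithfulSMul.algebraMap_injective K E)
  haveI := Fintype.ofFinite K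
  let τ := FiniteField.frobeniusAlgEquivOfAlgebraic K E
  refine ⟨τ.toRingEquiv, fun k => τ.commutes k, ?_, ?_⟩
  · intro c hc
    have h1 : c ∈ (⊥ : IntermediateField K E) := by
      rw [IsGalois.mem_bot_iff_fixed]
      intro f
      obtain ⟨n, hn⟩ := (FiniteField.bijective_frobeniusAlgEquivOfAlgebraic_pow K E).2 f
      rw [← hn]
      show (τ ^ (n : ℕ)) c = c
      rw [AlgEquiv.coe_pow]
      exact Function.iterate_fixed hc _
    rw [IntermediateField.mem_bot] at h1
    exact h1
  · intro c
    have h1 : τ ^ (Module.finrank K E) = 1 := by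
      rw [← FiniteField.orderOf_frobeniusAlgEquivOfAlgebraic]
      exact pow_orderOf_eq_one _
    have h2 := congrArg (fun f : E ≃ₐ[K] E => f c) h1
    simp only [AlgEquiv.coe_pow] at h2
    exact h2

variable (E) in
/-- the generator of the Galois group of `E/K`, odd degree -/
theorem exists_tau (ho : Odd (Module.finrank K E)) (h1 : Module.finrank K E ≠ 1) :
    ∃ τ : E ≃+* E, (∀ k : K, τ (algebraMap K E k) = algebraMap K E k) ∧
    (∀ c, τ (τ c) = c → ∃ k : K, algebraMap K E k = c) ∧ (∃ c, τ c ≠ c) ∧ (∃ c, τ (τ c) ≠ c) := by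
  obtain ⟨τ, h2, h3, h4⟩ := exists_frob E K
  have h5 : ∀ c, τ (τ c) = c → τ c = c := by
    intro c hc
    obtain ⟨m, hm⟩ := ho
    have h6 : ∀ j : ℕ, (τ : E → E)^[2 * j] c = c := by
      intro j
      rw [Function.iterate_mul]
      exact Function.iterate_fixed (by exact hc) j
    have h7 := h4 c
    rw [hm, add_comm, Function.iterate_add_apply, h6] at h7
    exact h7
  have h8 : ∀ c, τ (τ c) = c → ∃ k : K, algebraMap K E k = c := fun c hc => h3 c (h5 c hc)
  have h9 : ∃ c, τ (τ c) ≠ c := by
    by_contra hcon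
    push Not at hcon
    have h10 : Function.Surjective (algebraMap K E) := fun c => h8 c (hcon c)
    apply h1
    have h11 : (⊥ : Subalgebra K E) = ⊤ := by
      rw [eq_top_iff]
      intro x _
      rw [Algebra.mem_bot]
      exact h10 x
    exact Subalgebra.bot_eq_top_iff_finrank_eq_one.1 h11
  refine ⟨τ, h2, h8, ?_, h9⟩
  obtain ⟨c, hc⟩ := h9
  refine ⟨c, fun h => hc ?_⟩
  rw [h, h]

end fld

section types

variable {E : Type*} [Field E] [Finite E] {V : Type*} [AddCommGroup V] [Module E V]

theorem types_indep {c : (E ≃+* E) → V} [Fintype (E ≃+* E)] (h : ∀ a : E, ∑ ρ, ρ a • c ρ = 0) : ∀ ρ, c ρ = 0 := by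
  intro ρ
  rw [← Module.forall_dual_apply_eq_zero_iff E]
  intro φ
  have h1 := linearIndependent_monoidHom E E
  have h2 : LinearIndependent E (fun ρ : E ≃+* E => ((ρ : E →* E) : E → E)) :=
    h1.comp (fun ρ : E ≃+* E => (ρ : E →* E)) (fun ρ ρ' h => RingEquiv.ext fun a => DFunLike.congr_fun h a)
  rw [Fintype.linearIndependent_iff] at h2
  refine h2 (fun ρ => φ (c ρ)) ?_ ρ
  funext a
  have h3 := congrArg φ (h a)
  rw [map_sum, map_zero] at h3
  simp only [map_smul, smul_eq_mul] at h3
  simp only [Finset.sum_apply, Pi.smul_apply, smul_eq_mul, Pi.zero_apply]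
  rw [← h3]
  exact Finset.sum_congr rfl fun i _ => mul_comm _ _

/-- **Rigidity.** -/
theorem rigid {τ : E ≃+* E} (hτ1 : ∃ c, τ c ≠ c) (hτ2 : ∃ c, τ (τ c) ≠ c) {g g' z₁ z₂ : V → V} {σ σ' : E ≃+* E}
    (hg : ∀ (a : E) v, g (a • v) = σ a • g v) (hg' : ∀ (a : E) v, g' (a • v) = σ' a • g' v)
    (hz₁ : ∀ (a : E) v, z₁ (a • v) = τ a • z₁ v) (hz₂ : ∀ (a : E) v, z₂ (a • v) = τ.symm a • z₂ v)
    (hx : ∀ v, g v + z₁ (g v) - z₂ (g v) = g' v + g' (z₁ v) - g' (z₂ v)) {v₀ : V} (h0 : g v₀ ≠ 0)
    (h1 : z₁ v₀ = 0) (h2 : z₂ v₀ = 0) (g'0 : g' 0 = 0) :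
    (∀ v, z₁ (g v) = g (z₁ v)) ∧ (∀ v, z₂ (g v) = g (z₂ v)) := by
  classical
  haveI : Finite (E ≃+* E) := Finite.of_injective (fun f : E ≃+* E => (f : E → E)) DFunLike.coe_injective
  haveI := Fintype.ofFinite (E ≃+* E)
  have ne1 : ∀ ρ : E ≃+* E, ρ ≠ ρ.trans τ := by
    intro ρ h
    obtain ⟨c, hc⟩ := hτ1
    apply hc
    have h3 := congrArg (fun f : E ≃+* E => f (ρ.symm c)) h
    simp only [RingEquiv.trans_apply, RingEquiv.apply_symm_apply] at h3
    exact h3.symm
  have ne2 : ∀ ρ : E ≃+* E, ρ ≠ ρ.trans τ.symm := by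
    intro ρ h
    obtain ⟨c, hc⟩ := hτ1
    apply hc
    have h3 := congrArg (fun f : E ≃+* E => f (ρ.symm c)) h
    simp only [RingEquiv.trans_apply, RingEquiv.apply_symm_apply] at h3
    rw [h3, RingEquiv.apply_symm_apply, ← h3]
  have ne3 : ∀ ρ : E ≃+* E, ρ.trans τ ≠ ρ.trans τ.symm := by
    intro ρ h
    obtain ⟨c, hc⟩ := hτ2
    apply hc
    have h3 := congrArg (fun f : E ≃+* E => f (ρ.symm c)) h
    simp only [RingEquiv.trans_apply, RingEquiv.apply_symm_apply] at h3
    rw [h3, RingEquiv.apply_symm_apply]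
  have key : ∀ v (ρ : E ≃+* E), (if ρ = σ then g v else 0) + (if ρ = σ.trans τ then z₁ (g v) else 0) -
      (if ρ = σ.trans τ.symm then z₂ (g v) else 0) = (if ρ = σ' then g' v else 0) +
      (if ρ = σ'.trans τ then g' (z₁ v) else 0) - (if ρ = σ'.trans τ.symm then g' (z₂ v) else 0) := by
    intro v ρ
    rw [← sub_eq_zero]
    refine types_indep (c := fun ρ : E ≃+* E => ((if ρ = σ then g v else 0) + (if ρ = σ.trans τ then z₁ (g v) else 0) -
      (if ρ = σ.trans τ.symm then z₂ (g v) else 0)) - ((if ρ = σ' then g' v else 0) +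
      (if ρ = σ'.trans τ then g' (z₁ v) else 0) - (if ρ = σ'.trans τ.symm then g' (z₂ v) else 0))) ?_ ρ
    intro a
    have h3 := hx (a • v)
    rw [hg, hz₁, hz₂, hg', hz₁, hz₂, hg', hg', aut_comm σ' τ, aut_comm σ' τ.symm, ← sub_eq_zero] at h3
    simp only [smul_sub, smul_add, smul_ite, smul_zero, Finset.sum_sub_distrib, Finset.sum_add_distrib,
      Finset.sum_ite_eq', Finset.mem_univ, if_true, RingEquiv.trans_apply]
    exact h3
  have hσ : σ = σ' := by
    by_contra hne
    have h3 := key v₀ σ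
    rw [if_pos rfl, if_neg (ne1 σ), if_neg (ne2 σ), if_neg hne, h1, h2, g'0] at h3
    simp only [ite_self, add_zero, sub_zero] at h3
    exact h0 h3
  subst hσ
  have hgg : ∀ v, g v = g' v := by
    intro v
    have h3 := key v σ
    rw [if_pos rfl, if_neg (ne1 σ), if_neg (ne2 σ), if_pos rfl, if_neg (ne1 σ), if_neg (ne2 σ)] at h3
    simpa using h3
  constructor
  · intro v
    have h3 := key v (σ.trans τ)
    rw [if_neg (ne1 σ).symm, if_pos rfl, if_neg (ne3 σ), if_neg (ne1 σ).symm, if_pos rfl, if_neg (ne3 σ)] at h3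
    rw [hgg (z₁ v)]
    simpa using h3
  · intro v
    have h3 := key v (σ.trans τ.symm)
    rw [if_neg (ne2 σ).symm, if_neg (ne3 σ).symm, if_pos rfl, if_neg (ne2 σ).symm, if_neg (ne3 σ).symm, if_pos rfl] at h3
    rw [hgg (z₂ v)]
    simpa using h3

end types

end Cfsg.Agent.H567.FC
end

-- part: H567/FC/Herm
section
/-!
# S5764 [B-C3U]: the hermitian form over the extension field (helper567)
-/

set_option autoImplicit false

namespace Cfsg.Agent.H567.FC

open Cfsg.Agent.H198.FC

universe u v w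

/-- a hermitian form over `E` inducing `b` by the trace -/
structure Hm {K : Type u} [Field K] {V : Type v} [AddCommGroup V] [Module K V] (b : Cl K V) (E : Type w) [Field E]
    [Algebra K E] [Module E V] where
  /-- the involution -/
  J : E ≃+* E
  /-- the form -/
  h : V → V → E
  J_invol : ∀ a, J (J a) = a
  J_alg : ∀ k : K, J (algebraMap K E k) = algebraMap K E (b.τ k)
  add_left : ∀ v v' w, h (v + v') w = h v w + h v' w
  smul_left : ∀ (a : E) v w, h (a • v) w = a * h v w
  symm : ∀ v w, h w v = J (h v w)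
  tr : ∀ v w, b.B v w = Algebra.trace K E (h v w)
  nondeg : ∀ v, (∀ w, h v w = 0) → v = 0

section

variable {K : Type u} [Field K] [Finite K] {V : Type v} [AddCommGroup V] [Module K V] [Module.Finite K V]
  {b : Cl K V} {E : Type w} [Field E] [Finite E] [Algebra K E] [Module E V] [IsScalarTower K E V]

theorem Cl_nondeg_right (hU : b.IsU) {w : V} (h : ∀ v, b.B v w = 0) : w = 0 := by
  apply b.nondeg
  intro v
  rw [hU.2 v w, h, map_zero]

theorem ext_tr {x y : E} (h : ∀ a : E, Algebra.trace K E (x * a) = Algebra.trace K E (y * a)) : x = y := by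
  have h1 := traceForm_nondegenerate K E
  rw [← sub_eq_zero]
  apply h1.1
  intro a
  rw [Algebra.traceForm_apply, sub_mul, map_sub, h a, sub_self]

theorem trace_J {J : E ≃+* E} {τ : K ≃+* K} (hJ : ∀ k : K, J (algebraMap K E k) = algebraMap K E (τ k)) (x : E) :
    Algebra.trace K E (J x) = τ (Algebra.trace K E x) := by
  apply FaithfulSMul.algebraMap_injective K E
  rw [← hJ, FiniteField.algebraMap_trace_eq_sum_pow, FiniteField.algebraMap_trace_eq_sum_pow, map_sum]
  exact Finset.sum_congr rfl fun i _ => (map_pow J x _).symm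

theorem exists_Hm [Nontrivial V] (hU : b.IsU) (hadj : ∀ a : E, ∃ a' : E, ∀ v w, b.B (a • v) w = b.B v (a' • w)) :
    Nonempty (Hm b E) := by
  choose J hJ using hadj
  have b0r : ∀ v, b.B v 0 = 0 := fun v => by simpa using b.smul_right (0 : K) v 0
  have huniq : ∀ {a a' : E}, (∀ v w, b.B v (a • w) = b.B v (a' • w)) → a = a' := by
    intro a a' h
    obtain ⟨w, hw⟩ := exists_ne (0 : V)
    have h1 : a • w + (-1 : K) • (a' • w) = 0 := by
      apply Cl_nondeg_right hU
      intro v
      rw [b.add_right, b.smul_right, h, map_neg, map_one, neg_one_mul, add_neg_cancel]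
    rw [neg_one_smul, ← sub_eq_add_neg, ← sub_smul, smul_eq_zero] at h1
    rcases h1 with h1 | h1
    · exact sub_eq_zero.1 h1
    · exact absurd h1 hw
  have hJJ : ∀ a, J (J a) = a := by
    intro a
    apply huniq
    intro v w
    rw [← hJ, hU.2 w (J a • v), ← hJ, hU.2 v (a • w), b.invol]
  have hJadd : ∀ a a', J (a + a') = J a + J a' := by
    intro a a'
    apply huniq
    intro v w
    rw [← hJ, add_smul, add_smul, b.add_left, b.add_right, hJ, hJ]
  have hJmul : ∀ a a', J (a * a') = J a * J a' := by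
    intro a a'
    apply huniq
    intro v w
    rw [← hJ, mul_smul, mul_comm (J a), mul_smul, hJ, hJ]
  let J' : E ≃+* E :=
    { toFun := J, invFun := J, left_inv := hJJ, right_inv := hJJ, map_add' := hJadd, map_mul' := hJmul }
  have hJalg : ∀ k : K, J (algebraMap K E k) = algebraMap K E (b.τ k) := by
    intro k
    apply huniq
    intro v w
    rw [← hJ, algebraMap_smul, algebraMap_smul, b.smul_left, b.smul_right, b.invol]
  -- the form
  let ℓ : V → V → Module.Dual K E := fun v w =>
    { toFun := fun a => b.B (a • v) w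
      map_add' := fun a a' => by rw [add_smul, b.add_left]
      map_smul' := fun k a => by rw [smul_assoc, b.smul_left]; rfl }
  have hnd := traceForm_nondegenerate K E
  let h : V → V → E := fun v w => (LinearMap.BilinForm.toDual (Algebra.traceForm K E) hnd).symm (ℓ v w)
  have hh : ∀ v w a, Algebra.trace K E (h v w * a) = b.B (a • v) w := by
    intro v w a
    have h1 := LinearMap.BilinForm.apply_toDual_symm_apply (B := Algebra.traceForm K E) (hB := hnd) (ℓ v w) a
    rw [Algebra.traceForm_apply] at h1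
    exact h1
  have hadd : ∀ v v' w, h (v + v') w = h v w + h v' w := by
    intro v v' w
    apply ext_tr (K := K)
    intro a
    rw [hh, add_mul, map_add, hh, hh, smul_add, b.add_left]
  have hsmul : ∀ (a : E) v w, h (a • v) w = a * h v w := by
    intro a v w
    apply ext_tr (K := K)
    intro c
    rw [hh, mul_comm a, mul_assoc, hh, ← mul_smul, mul_comm a c]
  have hsymm : ∀ v w, h w v = J (h v w) := by
    intro v w
    apply ext_tr (K := K)
    intro a
    have h1 : J (h v w) * a = J' (h v w * J a) := by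
      show _ = J (h v w * J a)
      rw [hJmul, hJJ]
    rw [hh, h1, trace_J (J := J') (τ := b.τ) hJalg, hh, hU.2 v (a • w)]
    congr 1
    rw [hJ, hJJ]
  refine ⟨⟨J', h, hJJ, hJalg, hadd, hsmul, hsymm, ?_, ?_⟩⟩
  · intro v w
    have h1 := hh v w 1
    rw [mul_one, one_smul] at h1
    exact h1.symm
  · intro v hv
    apply b.nondeg
    intro w
    have h1 := hh v w 1
    rw [mul_one, one_smul, hv, map_zero] at h1
    exact h1.symm

end

namespace Hm

variable {K : Type u} [Field K] {V : Type v} [AddCommGroup V] [Module K V]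
  {b : Cl K V} {E : Type w} [Field E] [Algebra K E] [Module E V] (H : Hm b E)

theorem add_right (v w w' : V) : H.h v (w + w') = H.h v w + H.h v w' := by
  rw [H.symm (w + w') v, H.add_left, map_add, ← H.symm, ← H.symm]

theorem smul_right (a : E) (v w : V) : H.h v (a • w) = H.J a * H.h v w := by
  rw [H.symm (a • w) v, H.smul_left, map_mul, ← H.symm]

theorem zero_left (w : V) : H.h 0 w = 0 := by simpa using H.smul_left 0 0 w

theorem zero_right (v : V) : H.h v 0 = 0 := by simpa using H.smul_right 0 v 0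

theorem sum_left {ι : Type*} (s : Finset ι) (v : ι → V) (w : V) : H.h (∑ i ∈ s, v i) w = ∑ i ∈ s, H.h (v i) w := by
  classical
  induction s using Finset.induction_on with
  | empty => simp [H.zero_left]
  | insert i s hi ih => rw [Finset.sum_insert hi, Finset.sum_insert hi, H.add_left, ih]

theorem sum_right {ι : Type*} (s : Finset ι) (v : V) (w : ι → V) : H.h v (∑ i ∈ s, w i) = ∑ i ∈ s, H.h v (w i) := by
  classical
  induction s using Finset.induction_on with
  | empty => simp [H.zero_right]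
  | insert i s hi ih => rw [Finset.sum_insert hi, Finset.sum_insert hi, H.add_right, ih]

theorem neg_left (v w : V) : H.h (-v) w = - H.h v w := by
  have h := H.add_left v (-v) w
  rw [add_neg_cancel, H.zero_left] at h
  exact (neg_eq_of_add_eq_zero_right h.symm).symm

theorem sub_left (v v' w : V) : H.h (v - v') w = H.h v w - H.h v' w := by
  rw [sub_eq_add_neg, H.add_left, H.neg_left, sub_eq_add_neg]

/-- the associated sesquilinear form in the convention of `HermOrthonormal` -/
noncomputable def sesq : V →ₛₗ[(H.J : E →+* E)] V →ₗ[E] E :=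
  LinearMap.mk₂'ₛₗ (H.J : E →+* E) (RingHom.id E) (fun v w => H.h w v)
    (fun v v' w => H.add_right w v v') (fun a v w => H.smul_right a w v)
    (fun v w w' => H.add_left w w' v) (fun a v w => H.smul_left a w v)

theorem sesq_apply (v w : V) : H.sesq v w = H.h w v := rfl

theorem exists_orthonormal [Finite E] [Module.Finite E V] (hJ : ∃ a, H.J a ≠ a) :
    ∃ c : Module.Basis (Fin (Module.finrank E V)) E V, ∀ i j, H.h (c i) (c j) = if i = j then 1 else 0 := by
  obtain ⟨c, hc⟩ := Cfsg.Agent.ClassicalGeometry.HermOrthonormal.exists_orthonormal_basis (σ := (H.J : E →+* E)) (by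
    intro h
    obtain ⟨a, ha⟩ := hJ
    exact ha (DFunLike.congr_fun h a)) (fun a => H.J_invol a) H.sesq (by
      constructor
      intro x y
      rw [sesq_apply, sesq_apply]
      exact (H.symm y x).symm) (by
      intro x hx
      apply H.nondeg
      intro w
      have h1 := hx w
      rw [sesq_apply] at h1
      rw [H.symm w x, h1, map_zero])
  refine ⟨c, fun i j => ?_⟩
  have h1 := hc j i
  rw [sesq_apply] at h1
  rw [h1]
  simp only [eq_comm]

end Hm

end Cfsg.Agent.H567.FC
end

-- part: H567/FC/Hyp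
section
/-!
# S5764 [B-C3U]: hyperbolic pairs (helper567)
-/

set_option autoImplicit false

namespace Cfsg.Agent.H567.FC

open Cfsg.Agent.H198.FC

universe u v w

/-- hyperbolic pairs and one more vector -/
structure HB {K : Type u} [Field K] {V : Type v} [AddCommGroup V] [Module K V] {b : Cl K V} {E : Type w} [Field E]
    [Algebra K E] [Module E V] (H : Hm b E) (l : ℕ) where
  e : Fin (l + 1) → V
  f : Fin (l + 1) → V
  d : V
  ee : ∀ i j, H.h (e i) (e j) = 0
  ff : ∀ i j, H.h (f i) (f j) = 0
  ef : ∀ i j, H.h (e i) (f j) = if i = j then 1 else 0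
  ed : ∀ i, H.h (e i) d = 0
  fd : ∀ i, H.h (f i) d = 0
  span : Submodule.span E (Set.range e ∪ Set.range f ∪ {d}) = ⊤

variable {K : Type u} [Field K] {V : Type v} [AddCommGroup V] [Module K V]
  {b : Cl K V} {E : Type w} [Field E] [Algebra K E] [Module E V] (H : Hm b E)

theorem exists_HB' [Finite E] (hJ : ∃ a, H.J a ≠ a) {s : ℕ} (h2 : 2 ≤ s) (c : Module.Basis (Fin s) E V)
    (hc : ∀ i j, H.h (c i) (c j) = if i = j then 1 else 0) : ∃ l, Nonempty (HB H l) := by
  classical
  have hJ' : (H.J : E →+* E) ≠ RingHom.id E := by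
    intro h
    obtain ⟨a, ha⟩ := hJ
    exact ha (DFunLike.congr_fun h a)
  obtain ⟨ζ, hζ⟩ := Cfsg.Agent.ClassicalGeometry.InvolutiveNorm.exists_mul_sigma_eq (σ := (H.J : E →+* E)) hJ'
    (fun a => H.J_invol a) (a := -1) (by simp)
  obtain ⟨κ, hκ⟩ := Cfsg.Agent.ClassicalGeometry.InvolutiveNorm.exists_add_sigma_eq (σ := (H.J : E →+* E)) hJ'
    (fun a => H.J_invol a) (a := -1) (by simp)
  have hζ' : ζ * H.J ζ = -1 := hζ
  have hκ' : κ + H.J κ = -1 := hκ
  have hζ0 : ζ ≠ 0 := by
    rintro rfl
    rw [zero_mul] at hζ'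
    exact neg_ne_zero.2 one_ne_zero hζ'.symm
  obtain ⟨l, hl⟩ : ∃ l, s / 2 = l + 1 := ⟨s / 2 - 1, by omega⟩
  let u : Fin (l + 1) → V := fun i => c ⟨2 * i, by omega⟩
  let w : Fin (l + 1) → V := fun i => c ⟨2 * i + 1, by omega⟩
  let d : V := if h : s % 2 = 1 then c ⟨s - 1, by omega⟩ else 0
  have huu : ∀ i j, H.h (u i) (u j) = if i = j then 1 else 0 := by
    intro i j
    rw [hc]
    simp [Fin.ext_iff]
  have hww : ∀ i j, H.h (w i) (w j) = if i = j then 1 else 0 := by
    intro i j
    rw [hc]
    simp [Fin.ext_iff]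
  have huw : ∀ i j, H.h (u i) (w j) = 0 := by
    intro i j
    rw [hc, if_neg]
    rw [Fin.ext_iff]
    simp only
    omega
  have hwu : ∀ i j, H.h (w i) (u j) = 0 := by
    intro i j
    rw [hc, if_neg]
    rw [Fin.ext_iff]
    simp only
    omega
  have hud : ∀ i, H.h (u i) d = 0 := by
    intro i
    by_cases h : s % 2 = 1
    · simp only [d, dif_pos h]
      rw [hc, if_neg]
      rw [Fin.ext_iff]
      simp only
      omega
    · simp only [d, dif_neg h]
      exact H.zero_right _
  have hwd : ∀ i, H.h (w i) d = 0 := by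
    intro i
    by_cases h : s % 2 = 1
    · simp only [d, dif_pos h]
      rw [hc, if_neg]
      rw [Fin.ext_iff]
      simp only
      omega
    · simp only [d, dif_neg h]
      exact H.zero_right _
  let e : Fin (l + 1) → V := fun i => u i + ζ • w i
  let f : Fin (l + 1) → V := fun i => u i + κ • e i
  have heu : ∀ i j, H.h (e i) (u j) = if i = j then 1 else 0 := by
    intro i j
    show H.h (u i + ζ • w i) (u j) = _
    rw [H.add_left, H.smul_left, huu, hwu, mul_zero, add_zero]
  have hue : ∀ i j, H.h (u i) (e j) = if i = j then 1 else 0 := by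
    intro i j
    show H.h (u i) (u j + ζ • w j) = _
    rw [H.add_right, H.smul_right, huu, huw, mul_zero, add_zero]
  have hee : ∀ i j, H.h (e i) (e j) = 0 := by
    intro i j
    show H.h (e i) (u j + ζ • w j) = _
    rw [H.add_right, heu, H.smul_right]
    show _ + H.J ζ * H.h (u i + ζ • w i) (w j) = _
    rw [H.add_left, H.smul_left, huw, hww]
    by_cases h : i = j
    · rw [if_pos h, zero_add, mul_one, mul_comm, hζ', add_neg_cancel]
    · rw [if_neg h, mul_zero, add_zero, mul_zero, add_zero]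
  have hef : ∀ i j, H.h (e i) (f j) = if i = j then 1 else 0 := by
    intro i j
    show H.h (e i) (u j + κ • e j) = _
    rw [H.add_right, H.smul_right, heu, hee, mul_zero, add_zero]
  have hff : ∀ i j, H.h (f i) (f j) = 0 := by
    intro i j
    show H.h (u i + κ • e i) (f j) = _
    rw [H.add_left, H.smul_left, hef]
    show H.h (u i) (u j + κ • e j) + _ = _
    rw [H.add_right, H.smul_right, huu, hue]
    by_cases h : i = j
    · rw [if_pos h, mul_one, mul_one, add_assoc, add_comm (H.J κ), hκ', add_neg_cancel]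
    · rw [if_neg h, mul_zero, mul_zero, add_zero, add_zero]
  have hed : ∀ i, H.h (e i) d = 0 := by
    intro i
    show H.h (u i + ζ • w i) d = _
    rw [H.add_left, H.smul_left, hud, hwd, mul_zero, add_zero]
  have hfd : ∀ i, H.h (f i) d = 0 := by
    intro i
    show H.h (u i + κ • e i) d = _
    rw [H.add_left, H.smul_left, hud, hed, mul_zero, add_zero]
  refine ⟨l, ⟨⟨e, f, d, hee, hff, hef, hed, hfd, ?_⟩⟩⟩
  set S := Submodule.span E (Set.range e ∪ Set.range f ∪ {d}) with hS
  have he : ∀ i, e i ∈ S := fun i => Submodule.subset_span (Or.inl (Or.inl ⟨i, rfl⟩))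
  have hf : ∀ i, f i ∈ S := fun i => Submodule.subset_span (Or.inl (Or.inr ⟨i, rfl⟩))
  have hd : d ∈ S := Submodule.subset_span (Or.inr rfl)
  have hu : ∀ i, u i ∈ S := by
    intro i
    have h1 : u i = f i - κ • e i := by
      show u i = u i + κ • e i - κ • e i
      rw [add_sub_cancel_right]
    rw [h1]
    exact S.sub_mem (hf i) (S.smul_mem _ (he i))
  have hw : ∀ i, w i ∈ S := by
    intro i
    have h1 : w i = ζ⁻¹ • (e i - u i) := by
      show w i = ζ⁻¹ • (u i + ζ • w i - u i)
      rw [add_sub_cancel_left, smul_smul, inv_mul_cancel₀ hζ0, one_smul]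
    rw [h1]
    exact S.smul_mem _ (S.sub_mem (he i) (hu i))
  rw [eq_top_iff, ← c.span_eq, Submodule.span_le]
  rintro _ ⟨j, rfl⟩
  have hj := j.2
  rcases Nat.even_or_odd' (j : ℕ) with ⟨i, hi | hi⟩
  · by_cases hil : i < l + 1
    · have h1 : c j = u ⟨i, hil⟩ := by
        show c j = c _
        congr 1
        exact Fin.ext hi
      rw [h1]
      exact hu _
    · have h3 : s % 2 = 1 := by omega
      have h1 : c j = d := by
        simp only [d, dif_pos h3]
        congr 1
        rw [Fin.ext_iff]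
        simp only
        omega
      rw [h1]
      exact hd
  · have hil : i < l + 1 := by omega
    have h1 : c j = w ⟨i, hil⟩ := by
      show c j = c _
      congr 1
      exact Fin.ext hi
    rw [h1]
    exact hw _

theorem exists_HB [Finite E] [Module.Finite E V] (hJ : ∃ a, H.J a ≠ a) (h2 : 2 ≤ Module.finrank E V) :
    ∃ l, Nonempty (HB H l) := by
  obtain ⟨c, hc⟩ := H.exists_orthonormal hJ
  exact exists_HB' H hJ h2 c hc

end Cfsg.Agent.H567.FC
end

-- part: H567/FC/ZMap
section
/-!
# S5764 [B-C3U]: the isometries `1 + T - T*` (helper567)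
-/

set_option autoImplicit false

namespace Cfsg.Agent.H567.FC

open Cfsg.Agent.H198.FC

universe u v w

section nil

variable {K : Type u} [Field K] [Finite K] {V : Type v} [AddCommGroup V] [Module K V] [Module.Finite K V]

theorem one_add_pow {A : Type*} [Ring A] {N : A} (hN : N * N = 0) (k : ℕ) : (1 + N) ^ k = 1 + k • N := by
  induction k with
  | zero => simp
  | succ k ih =>
    have h1 : (1 + k • N) * (1 + N) = 1 + (k • N + N) + k • (N * N) := by
      simp only [nsmul_eq_mul]
      noncomm_ring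
    rw [pow_succ, ih, h1, hN, smul_zero, add_zero, succ_nsmul]

theorem det_one_add {N : R K V} (hN : N * N = 0) : LinearMap.det (1 + N) = 1 := by
  obtain ⟨p, hp⟩ := CharP.exists K
  haveI : Fact p.Prime := ⟨CharP.char_is_prime K p⟩
  have h1 : (1 + N) ^ p = 1 := by
    rw [one_add_pow hN, ← Nat.cast_smul_eq_nsmul K, CharP.cast_eq_zero, zero_smul, add_zero]
  have h2 := congrArg LinearMap.det h1
  rw [map_pow, map_one] at h2
  have h3 : frobenius K p (LinearMap.det (1 + N)) = frobenius K p 1 := by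
    rw [frobenius_def, frobenius_def, one_pow, h2]
  exact frobenius_inj K p h3

end nil

variable {K : Type u} [Field K] {V : Type v} [AddCommGroup V] [Module K V]
  {b : Cl K V} {E : Type w} [Field E] [Algebra K E] [Module E V] [IsScalarTower K E V] (H : Hm b E)

/-- `u ↦ τ(h(u,w)) v` -/
noncomputable def Z {τ : E ≃+* E} (hτ : ∀ k : K, τ (algebraMap K E k) = algebraMap K E k) (v w : V) : R K V where
  toFun u := τ (H.h u w) • v
  map_add' u u' := by rw [H.add_left, map_add, add_smul]
  map_smul' k u := by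
    rw [← algebraMap_smul E k u, H.smul_left, map_mul, hτ, mul_smul, algebraMap_smul]
    rfl

@[simp] theorem Z_apply {τ : E ≃+* E} (hτ : ∀ k : K, τ (algebraMap K E k) = algebraMap K E k) (v w u : V) :
    Z H hτ v w u = τ (H.h u w) • v := rfl

theorem symm_fix {τ : E ≃+* E} (hτ : ∀ k : K, τ (algebraMap K E k) = algebraMap K E k) (k : K) :
    τ.symm (algebraMap K E k) = algebraMap K E k := by
  rw [RingEquiv.symm_apply_eq, hτ]

theorem Z_adj [Finite E] {τ : E ≃+* E} (hτ : ∀ k : K, τ (algebraMap K E k) = algebraMap K E k) (v w u u' : V) :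
    b.B (Z H hτ v w u) u' = b.B u (Z H (symm_fix hτ) w v u') := by
  have h1 : ∀ x : E, Algebra.trace K E (τ x) = Algebra.trace K E x := by
    intro x
    haveI : Finite K := Finite.of_injective _ (FaithfulSMul.algebraMap_injective K E)
    exact trace_J (τ := RingEquiv.refl K) hτ x
  have h2 : τ (τ.symm (H.h v u') * H.h u w) = τ (H.h u w) * H.h v u' := by
    rw [map_mul, τ.apply_symm_apply, mul_comm]
  rw [H.tr, H.tr, Z_apply, Z_apply, H.smul_left, H.smul_right, aut_comm H.J τ.symm, ← H.symm,
    ← h1 (τ.symm (H.h v u') * H.h u w), h2]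

section fam

variable {κ : Type} [Fintype κ] (v w : κ → V)

/-- the first component -/
noncomputable def TT {τ : E ≃+* E} (hτ : ∀ k : K, τ (algebraMap K E k) = algebraMap K E k) : R K V :=
  ∑ i, Z H hτ (v i) (w i)

theorem TT_apply {τ : E ≃+* E} (hτ : ∀ k : K, τ (algebraMap K E k) = algebraMap K E k) (u : V) :
    TT H v w hτ u = ∑ i, τ (H.h u (w i)) • v i := by
  rw [TT, LinearMap.sum_apply]
  rfl

theorem TT_smul {τ : E ≃+* E} (hτ : ∀ k : K, τ (algebraMap K E k) = algebraMap K E k) (a : E) (u : V) :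
    TT H v w hτ (a • u) = τ a • TT H v w hτ u := by
  rw [TT_apply, TT_apply, Finset.smul_sum]
  refine Finset.sum_congr rfl fun i _ => ?_
  rw [H.smul_left, map_mul, mul_smul]

theorem TT_zero {τ : E ≃+* E} (hτ : ∀ k : K, τ (algebraMap K E k) = algebraMap K E k) {u : V}
    (h : ∀ i, H.h u (w i) = 0) : TT H v w hτ u = 0 := by
  rw [TT_apply]
  refine Finset.sum_eq_zero fun i _ => ?_
  rw [h, map_zero, zero_smul]

theorem h_TT {τ : E ≃+* E} (hτ : ∀ k : K, τ (algebraMap K E k) = algebraMap K E k) (u y : V)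
    (h : ∀ i, H.h (v i) y = 0) : H.h (TT H v w hτ u) y = 0 := by
  rw [TT_apply, H.sum_left]
  refine Finset.sum_eq_zero fun i _ => ?_
  rw [H.smul_left, h, mul_zero]

theorem TT_adj [Finite E] {τ : E ≃+* E} (hτ : ∀ k : K, τ (algebraMap K E k) = algebraMap K E k) (u u' : V) :
    b.B (TT H v w hτ u) u' = b.B u (TT H w v (symm_fix hτ) u') := by
  have hl : ∀ (s : Finset κ) (F : κ → V), b.B (∑ i ∈ s, F i) u' = ∑ i ∈ s, b.B (F i) u' := by
    classical
    intro s F
    induction s using Finset.induction_on with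
    | empty =>
      have h := b.smul_left (0 : K) 0 u'
      simpa using h
    | insert i s hi ih => rw [Finset.sum_insert hi, Finset.sum_insert hi, b.add_left, ih]
  have hr : ∀ (s : Finset κ) (F : κ → V), b.B u (∑ i ∈ s, F i) = ∑ i ∈ s, b.B u (F i) := by
    classical
    intro s F
    induction s using Finset.induction_on with
    | empty =>
      have h := b.smul_right (0 : K) u 0
      simpa using h
    | insert i s hi ih => rw [Finset.sum_insert hi, Finset.sum_insert hi, b.add_right, ih]
  rw [TT, TT, LinearMap.sum_apply, LinearMap.sum_apply, hl, hr]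
  exact Finset.sum_congr rfl fun i _ => Z_adj H hτ _ _ _ _

/-- the isometry `1 + T - T*` -/
theorem exists_x [Finite E] [Finite K] [Module.Finite K V] (hU : b.IsU) {τ : E ≃+* E}
    (hτ : ∀ k : K, τ (algebraMap K E k) = algebraMap K E k)
    (hvv : ∀ i j, H.h (v i) (v j) = 0) (hvw : ∀ i j, H.h (v i) (w j) = 0) (hww : ∀ i j, H.h (w i) (w j) = 0) :
    ∃ x : (R K V)ˣ, LinearMap.det ((x : (R K V)ˣ) : R K V) = 1 ∧ b.Isom x ∧
      ∀ u, (x : R K V) u = u + TT H v w hτ u - TT H w v (symm_fix hτ) u := by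
  have hwv : ∀ i j, H.h (w i) (v j) = 0 := by
    intro i j
    rw [H.symm (v j) (w i), hvw, map_zero]
  set T := TT H v w hτ with hT
  set T' := TT H w v (symm_fix hτ) with hT'
  have h1 : ∀ u, T (T u) = 0 := fun u => TT_zero H v w hτ fun i => h_TT H v w hτ u _ fun j => hvw j i
  have h2 : ∀ u, T (T' u) = 0 := fun u => TT_zero H v w hτ fun i => h_TT H w v _ u _ fun j => hww j i
  have h3 : ∀ u, T' (T u) = 0 := fun u => TT_zero H w v _ fun i => h_TT H v w hτ u _ fun j => hvv j i
  have h4 : ∀ u, T' (T' u) = 0 := fun u => TT_zero H w v _ fun i => h_TT H w v _ u _ fun j => hwv j i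
  set N : R K V := T - T' with hN
  have hNN : N * N = 0 := by
    apply LinearMap.ext
    intro u
    show (T - T') ((T - T') u) = 0
    rw [LinearMap.sub_apply, LinearMap.sub_apply, map_sub, map_sub, h1, h2, h3, h4]
    simp
  have hadj1 : ∀ u u', b.B (T u) u' = b.B u (T' u') := fun u u' => TT_adj H v w hτ u u'
  have hadj2 : ∀ u u', b.B (T' u) u' = b.B u (T u') := by
    intro u u'
    rw [hU.2 u' (T' u), ← hadj1, hU.2 u (T u'), b.invol]
  have bsubl : ∀ x y z, b.B (x - y) z = b.B x z - b.B y z := by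
    intro x y z
    have h := b.add_left (x - y) y z
    rw [sub_add_cancel] at h
    rw [h, add_sub_cancel_right]
  have bsubr : ∀ x y z, b.B x (y - z) = b.B x y - b.B x z := by
    intro x y z
    have h := b.add_right x (y - z) z
    rw [sub_add_cancel] at h
    rw [h, add_sub_cancel_right]
  have hadjN : ∀ u u', b.B (N u) u' = - b.B u (N u') := by
    intro u u'
    rw [hN, LinearMap.sub_apply, LinearMap.sub_apply, bsubl, bsubr, hadj1, hadj2]
    ring
  refine ⟨⟨1 + N, 1 - N, ?_, ?_⟩, det_one_add hNN, ?_, ?_⟩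
  · have h5 : (1 + N) * (1 - N) = 1 - N * N := by noncomm_ring
    rw [h5, hNN, sub_zero]
  · have h5 : (1 - N) * (1 + N) = 1 - N * N := by noncomm_ring
    rw [h5, hNN, sub_zero]
  · intro u u'
    show b.B (u + N u) (u' + N u') = _
    have h5 : N (N u') = 0 := by
      have := congrArg (fun f : R K V => f u') hNN
      exact this
    have h6 : b.B u 0 = 0 := by simpa using b.smul_right (0 : K) u 0
    rw [b.add_left, b.add_right, b.add_right, hadjN, hadjN, h5, h6]
    ring
  · intro u
    show u + (T - T') u = _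
    rw [LinearMap.sub_apply]
    abel

end fam

end Cfsg.Agent.H567.FC
end
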