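import Cfsg.Agent.H567.FC.ZMap
import Cfsg.Agent.H277.FC.SN
set_option linter.all false

-- part: H567/FC/Final
section
/-!
# S5764 [B-C3U]: semilinear maps commuting with the components (helper567)
-/

set_option autoImplicit false

namespace Cfsg.Agent.H567.FC

open Cfsg.Agent.H198.FC

universe u v w

variable {K : Type u} [Field K] {V : Type v} [AddCommGroup V] [Module K V]
  {b : Cl K V} {E : Type w} [Field E] [Finite E] [Algebra K E] [Module E V] [IsScalarTower K E V] {H : Hm b E}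
  {l : ℕ} (P : HB H l)

namespace HB

theorem fe (i j : Fin (l + 1)) : H.h (P.f i) (P.e j) = if i = j then 1 else 0 := by
  rw [H.symm (P.e j) (P.f i), P.ef]
  by_cases h : j = i
  · rw [if_pos h, if_pos h.symm, map_one]
  · rw [if_neg h, if_neg (fun h' => h h'.symm), map_zero]

/-- an isotropic vector involving `d` -/
theorem exists_v (hJ : ∃ a, H.J a ≠ a) : ∃ a : E, H.h (P.e 0 + a • P.f 0 + P.d) (P.e 0 + a • P.f 0 + P.d) = 0 := by
  have hJ' : (H.J : E →+* E) ≠ RingHom.id E := by
    intro h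
    obtain ⟨a, ha⟩ := hJ
    exact ha (DFunLike.congr_fun h a)
  obtain ⟨a, ha⟩ := Cfsg.Agent.ClassicalGeometry.InvolutiveNorm.exists_add_sigma_eq (σ := (H.J : E →+* E)) hJ'
    (fun a => H.J_invol a) (a := - H.h P.d P.d) (by
      show H.J (- H.h P.d P.d) = _
      rw [map_neg, ← H.symm])
  have ha' : a + H.J a = - H.h P.d P.d := ha
  refine ⟨a, ?_⟩
  have hde : H.h P.d (P.e 0) = 0 := by rw [H.symm (P.e 0) P.d, P.ed, map_zero]
  have hdf : H.h P.d (P.f 0) = 0 := by rw [H.symm (P.f 0) P.d, P.fd, map_zero]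
  simp only [H.add_left, H.add_right, H.smul_left, H.smul_right, P.ee, P.ff, P.ef, P.fe, P.ed, P.fd, hde, hdf,
    if_true, mul_zero, mul_one, add_zero, zero_add]
  linear_combination ha'

/-- maps commuting with the components -/
theorem final {τ : E ≃+* E} (hτ : ∀ k : K, τ (algebraMap K E k) = algebraMap K E k)
    (hfix : ∀ c, τ (τ c) = c → ∃ k : K, algebraMap K E k = c) {γ : E} (hγ0 : γ ≠ 0)
    (hγ : ∀ σ : E ≃+* E, σ γ = γ → ∀ a, σ a = a) {a : E} {g : V → V} (hgi : Function.Injective g)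
    (hga : ∀ v v', g (v + v') = g v + g v') {σ : E ≃+* E} (hg : ∀ (a : E) v, g (a • v) = σ a • g v)
    (c1 : ∀ u, TT H P.f P.f hτ (g u) = g (TT H P.f P.f hτ u))
    (c1' : ∀ u, TT H P.f P.f (symm_fix hτ) (g u) = g (TT H P.f P.f (symm_fix hτ) u))
    (c2 : ∀ u, TT H (fun i => γ • P.e i) P.e hτ (g u) = g (TT H (fun i => γ • P.e i) P.e hτ u))
    (c3 : ∀ u, TT H (fun i : Fin l => P.e i.succ) (fun i => P.e i.castSucc) hτ (g u) =
      g (TT H (fun i : Fin l => P.e i.succ) (fun i => P.e i.castSucc) hτ u))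
    (c3' : ∀ u, TT H (fun i : Fin l => P.e i.castSucc) (fun i => P.e i.succ) (symm_fix hτ) (g u) =
      g (TT H (fun i : Fin l => P.e i.castSucc) (fun i => P.e i.succ) (symm_fix hτ) u))
    (c4 : ∀ u, TT H (fun _ : Unit => P.e 0 + a • P.f 0 + P.d) (fun _ => P.e 0 + a • P.f 0 + P.d) hτ (g u) =
      g (TT H (fun _ : Unit => P.e 0 + a • P.f 0 + P.d) (fun _ => P.e 0 + a • P.f 0 + P.d) hτ u)) :
    ∃ k : K, k ≠ 0 ∧ ∀ u, g u = k • u := by
  have g0 : g 0 = 0 := by simpa using hga 0 0
  -- values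
  have t1 : ∀ j, TT H P.f P.f hτ (P.e j) = P.f j := by
    intro j
    rw [TT_apply, Finset.sum_eq_single j]
    · rw [P.ef, if_pos rfl, map_one, one_smul]
    · intro i _ hi
      rw [P.ef, if_neg hi.symm, map_zero, zero_smul]
    · intro h; exact absurd (Finset.mem_univ j) h
  have t1' : ∀ j, TT H P.f P.f (symm_fix hτ) (P.e j) = P.f j := by
    intro j
    rw [TT_apply, Finset.sum_eq_single j]
    · rw [P.ef, if_pos rfl, map_one, one_smul]
    · intro i _ hi
      rw [P.ef, if_neg hi.symm, map_zero, zero_smul]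
    · intro h; exact absurd (Finset.mem_univ j) h
  have t2 : ∀ j, TT H (fun i => γ • P.e i) P.e hτ (P.f j) = γ • P.e j := by
    intro j
    rw [TT_apply, Finset.sum_eq_single j]
    · rw [P.fe, if_pos rfl, map_one, one_smul]
    · intro i _ hi
      rw [P.fe, if_neg hi.symm, map_zero, zero_smul]
    · intro h; exact absurd (Finset.mem_univ j) h
  have t3 : ∀ j : Fin l, TT H (fun i : Fin l => P.e i.succ) (fun i => P.e i.castSucc) hτ (P.f j.castSucc) =
      P.e j.succ := by
    intro j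
    rw [TT_apply, Finset.sum_eq_single j]
    · rw [P.fe, if_pos rfl, map_one, one_smul]
    · intro i _ hi
      rw [P.fe, if_neg (fun h => hi (Fin.castSucc_injective l h).symm), map_zero, zero_smul]
    · intro h; exact absurd (Finset.mem_univ j) h
  have t3' : TT H (fun i : Fin l => P.e i.castSucc) (fun i => P.e i.succ) (symm_fix hτ) (P.f 0) = 0 := by
    apply TT_zero
    intro i
    rw [P.fe, if_neg (Fin.succ_ne_zero i).symm]
  have t4 : TT H (fun _ : Unit => P.e 0 + a • P.f 0 + P.d) (fun _ => P.e 0 + a • P.f 0 + P.d) hτ (P.f 0) =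
      P.e 0 + a • P.f 0 + P.d := by
    rw [TT_apply]
    simp only [Finset.univ_unique, Finset.sum_singleton, H.add_right, H.smul_right, P.fe, P.ff, P.fd, if_true,
      mul_zero, add_zero, map_one, one_smul]
  -- `g (f 0)`
  have hgf : g (P.f 0) = ∑ i, τ (H.h (g (P.e 0)) (P.f i)) • P.f i := by
    have h := c1 (P.e 0)
    rw [t1, TT_apply] at h
    exact h.symm
  have hgf' : g (P.f 0) = ∑ i, τ.symm (H.h (g (P.e 0)) (P.f i)) • P.f i := by
    have h := c1' (P.e 0)
    rw [t1', TT_apply] at h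
    exact h.symm
  have hpair : ∀ j, H.h (g (P.f 0)) (P.e j) = τ (H.h (g (P.e 0)) (P.f j)) := by
    intro j
    rw [hgf, H.sum_left, Finset.sum_eq_single j]
    · rw [H.smul_left, P.fe, if_pos rfl, mul_one]
    · intro i _ hi
      rw [H.smul_left, P.fe, if_neg hi, mul_zero]
    · intro h; exact absurd (Finset.mem_univ j) h
  have hpair' : ∀ j, H.h (g (P.f 0)) (P.e j) = τ.symm (H.h (g (P.e 0)) (P.f j)) := by
    intro j
    rw [hgf', H.sum_left, Finset.sum_eq_single j]
    · rw [H.smul_left, P.fe, if_pos rfl, mul_one]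
    · intro i _ hi
      rw [H.smul_left, P.fe, if_neg hi, mul_zero]
    · intro h; exact absurd (Finset.mem_univ j) h
  have hK : ∀ j, ∃ k : K, algebraMap K E k = H.h (g (P.e 0)) (P.f j) := by
    intro j
    apply hfix
    rw [← hpair, hpair', τ.apply_symm_apply]
  have hsucc : ∀ j : Fin l, H.h (g (P.e 0)) (P.f j.succ) = 0 := by
    intro j
    have h := c3' (P.f 0)
    rw [t3', g0, TT_apply] at h
    have h1 := congrArg (fun x => H.h x (P.f j.castSucc)) h
    simp only [H.sum_left, H.zero_left] at h1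
    rw [Finset.sum_eq_single j] at h1
    · rw [H.smul_left, P.ef, if_pos rfl, mul_one, hpair, τ.symm_apply_apply] at h1
      exact h1
    · intro i _ hi
      rw [H.smul_left, P.ef, if_neg (fun h => hi (Fin.castSucc_injective l h)), mul_zero]
    · intro h; exact absurd (Finset.mem_univ j) h
  obtain ⟨k, hk⟩ := hK 0
  have hf0 : g (P.f 0) = k • P.f 0 := by
    rw [hgf, Fin.sum_univ_succ, Finset.sum_eq_zero (fun j _ => by rw [hsucc, map_zero, zero_smul]), add_zero,
      ← hk, hτ, algebraMap_smul]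
  have hf0ne : P.f 0 ≠ 0 := by
    intro h
    have h1 := P.fe 0 0
    rw [h, H.zero_left, if_pos rfl] at h1
    exact zero_ne_one h1
  have hk0 : k ≠ 0 := by
    rintro rfl
    rw [zero_smul, ← g0] at hf0
    exact hf0ne (hgi hf0)
  have hkE : algebraMap K E k ≠ 0 := by
    rw [Ne, FaithfulSMul.algebraMap_eq_zero_iff]
    exact hk0
  -- `g (e 0)` and `σ`
  have hge : σ γ • g (P.e 0) = k • γ • P.e 0 := by
    have h := c2 (P.f 0)
    rw [t2, hg, hf0, map_smul, t2] at h
    exact h.symm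
  have hσγ : σ γ = γ := by
    have h1 : H.h (σ γ • g (P.e 0)) (P.f 0) = H.h (k • γ • P.e 0) (P.f 0) := by rw [hge]
    rw [H.smul_left, ← hk, ← algebraMap_smul E k, H.smul_left, H.smul_left, P.ef, if_pos rfl, mul_one,
      mul_comm] at h1
    exact mul_left_cancel₀ hkE h1
  have hσ := hγ σ hσγ
  have he0 : g (P.e 0) = k • P.e 0 := by
    rw [hσγ, smul_comm k γ] at hge
    exact smul_right_injective V hγ0 hge
  have hall : ∀ j, g (P.f j) = k • P.f j ∧ g (P.e j) = k • P.e j := by
    intro j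
    induction j using Fin.induction with
    | zero => exact ⟨hf0, he0⟩
    | succ j ih =>
      have h1 : g (P.e j.succ) = k • P.e j.succ := by
        have h := c3 (P.f j.castSucc)
        rw [t3, ih.1, map_smul, t3] at h
        exact h.symm
      refine ⟨?_, h1⟩
      have h := c1 (P.e j.succ)
      rw [t1, h1, map_smul, t1] at h
      exact h.symm
  have hd : g P.d = k • P.d := by
    have h := c4 (P.f 0)
    rw [t4, hf0, map_smul, t4, hga, hga, hg, hσ, he0, hf0, smul_add, smul_add, smul_comm a k] at h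
    exact (add_left_cancel h).symm
  refine ⟨k, hk0, fun u => ?_⟩
  have hu : u ∈ Submodule.span E (Set.range P.e ∪ Set.range P.f ∪ {P.d}) := by
    rw [P.span]
    trivial
  induction hu using Submodule.span_induction with
  | mem x hx =>
    rcases hx with (⟨i, rfl⟩ | ⟨i, rfl⟩) | hx
    · exact (hall i).2
    · exact (hall i).1
    · rw [Set.mem_singleton_iff.1 hx]
      exact hd
  | zero => rw [g0, smul_zero]
  | add x y _ _ hx hy => rw [hga, hx, hy, smul_add]
  | smul c x _ hx => rw [hg, hσ, hx, smul_comm]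

end HB

end Cfsg.Agent.H567.FC
end

-- part: H567/FC/Main
section
/-!
# S5764 [B-C3U]: `S` normalizes a field `E` of odd prime degree over `K`, unitary, `dim_E V ≥ 2` (helper567)
-/

set_option autoImplicit false
set_option linter.style.haveILetI false

namespace Cfsg.Agent.H567.FC

open Cfsg.Agent.H198.FC

universe u v w

section

variable {K : Type u} [Field K] {V : Type v} [AddCommGroup V] [Module K V]
  {E : Type w} [Field E] [Finite E] [Algebra K E] [Module E V] [IsScalarTower K E V]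

/-- `f` normalizes `E` -/
def Nrm (E : Type w) [Field E] [Algebra K E] [Module E V] [IsScalarTower K E V] (f : Equiv.Perm (R K V)) : Prop :=
  ∀ a : E, ∃ a' : E, f (Algebra.lsmul K K V a) = Algebra.lsmul K K V a'

theorem semilin [Nontrivial V] {f : Equiv.Perm (R K V)} (hf : Nrm E f) {g : V → V} (hgs : Function.Surjective g)
    (hga : ∀ v v', g (v + v') = g v + g v') (hfg : ∀ (X : R K V) v, f X (g v) = g (X v)) :
    ∃ σ : E ≃+* E, ∀ (a : E) v, g (a • v) = σ a • g v := by
  choose σ hσ using hf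
  have h1 : ∀ (a : E) v, g (a • v) = σ a • g v := by
    intro a v
    have h := hfg (Algebra.lsmul K K V a) v
    rw [hσ] at h
    exact h.symm
  obtain ⟨w, hw⟩ := exists_ne (0 : V)
  obtain ⟨v, rfl⟩ := hgs w
  have hinj : ∀ {a a' : E}, a • g v = a' • g v → a = a' := by
    intro a a' h
    rw [← sub_eq_zero, ← sub_smul, smul_eq_zero] at h
    rcases h with h | h
    · exact sub_eq_zero.1 h
    · exact absurd h hw
  let s : E →+* E :=
    { toFun := σ
      map_one' := hinj (by rw [← h1, one_smul, one_smul])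
      map_mul' := fun a a' => hinj (by rw [← h1, mul_smul, h1, h1, mul_smul])
      map_zero' := hinj (by rw [← h1, zero_smul, zero_smul]; simpa using hga 0 0)
      map_add' := fun a a' => hinj (by rw [← h1, add_smul, hga, h1, h1, add_smul]) }
  have hs : Function.Bijective s := by
    have h2 : Function.Injective s := s.injective
    exact ⟨h2, Finite.surjective_of_injective h2⟩
  exact ⟨RingEquiv.ofBijective s hs, h1⟩

/-- commutation with the components of `x` -/
theorem comm_of [Nontrivial V] {b : Cl K V} (H : Hm b E) {τ : E ≃+* E}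
    (hτ : ∀ k : K, τ (algebraMap K E k) = algebraMap K E k) (hτ1 : ∃ c, τ c ≠ c) (hτ2 : ∃ c, τ (τ c) ≠ c)
    {κ : Type} [Fintype κ] {v w : κ → V} {x : (R K V)ˣ}
    (hx : ∀ u, (x : R K V) u = u + TT H v w hτ u - TT H w v (symm_fix hτ) u)
    {v₀ : V} (hv0 : v₀ ≠ 0) (h1 : ∀ i, H.h v₀ (w i) = 0) (h2 : ∀ i, H.h v₀ (v i) = 0)
    {f : Equiv.Perm (R K V)} (hf' : Nrm E (cj K V x * f * (cj K V x)⁻¹))
    {g : Equiv.Perm V} (hga : ∀ v v', g (v + v') = g v + g v') {σ : E ≃+* E} (hg : ∀ (a : E) v, g (a • v) = σ a • g v)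
    (hfg : ∀ (X : R K V) v, f X (g v) = g (X v)) :
    (∀ u, TT H v w hτ (g u) = g (TT H v w hτ u)) ∧
      ∀ u, TT H w v (symm_fix hτ) (g u) = g (TT H w v (symm_fix hτ) u) := by
  have hxi : ∀ u, (x : R K V) (((x⁻¹ : (R K V)ˣ) : R K V) u) = u := by
    intro u
    have h := congrArg (fun X : R K V => X u) (Units.mul_inv x)
    exact h
  have hix : ∀ u, ((x⁻¹ : (R K V)ˣ) : R K V) ((x : R K V) u) = u := by
    intro u
    have h := congrArg (fun X : R K V => X u) (Units.inv_mul x)
    exact h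
  let g' : V → V := fun u => (x : R K V) (g (((x⁻¹ : (R K V)ˣ) : R K V) u))
  have g'a : ∀ v v', g' (v + v') = g' v + g' v' := by
    intro v v'
    show (x : R K V) (g (((x⁻¹ : (R K V)ˣ) : R K V) (v + v'))) = _
    rw [map_add, hga, map_add]
  have g's : Function.Surjective g' := by
    intro u
    refine ⟨(x : R K V) (g.symm (((x⁻¹ : (R K V)ˣ) : R K V) u)), ?_⟩
    show (x : R K V) (g (((x⁻¹ : (R K V)ˣ) : R K V) ((x : R K V) _))) = u
    rw [hix, g.apply_symm_apply, hxi]
  have hfg' : ∀ (X : R K V) v, (cj K V x * f * (cj K V x)⁻¹) X (g' v) = g' (X v) := by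
    intro X v
    rw [← map_inv]
    show (x * f (x⁻¹ * X * ((x⁻¹)⁻¹ : (R K V)ˣ)) * ((x⁻¹ : (R K V)ˣ) : R K V) : R K V)
      ((x : R K V) (g (((x⁻¹ : (R K V)ˣ) : R K V) v))) = _
    rw [inv_inv]
    show (x : R K V) (f (x⁻¹ * X * x) (((x⁻¹ : (R K V)ˣ) : R K V) ((x : R K V) (g (((x⁻¹ : (R K V)ˣ) : R K V) v))))) = _
    rw [hix, hfg]
    show (x : R K V) (g (((x⁻¹ : (R K V)ˣ) : R K V) (X ((x : R K V) (((x⁻¹ : (R K V)ˣ) : R K V) v))))) = _
    rw [hxi]
  obtain ⟨σ', hσ'⟩ := semilin hf' g's g'a hfg'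
  have g'0 : g' 0 = 0 := by simpa using g'a 0 0
  have g0 : g 0 = 0 := by simpa using hga 0 0
  have g'sub : ∀ u u', g' (u - u') = g' u - g' u' := by
    intro u u'
    have h := g'a (u - u') u'
    rw [sub_add_cancel] at h
    rw [h, add_sub_cancel_right]
  refine rigid hτ1 hτ2 (g := g) (g' := g') (z₁ := TT H v w hτ) (z₂ := TT H w v (symm_fix hτ)) hg hσ'
    (TT_smul H v w hτ) (TT_smul H w v (symm_fix hτ)) ?_ (v₀ := v₀) ?_ (TT_zero H v w hτ h1)
    (TT_zero H w v _ h2) g'0
  · intro u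
    rw [← hx (g u)]
    have h3 : g' ((x : R K V) u) = (x : R K V) (g u) := by
      show (x : R K V) (g (((x⁻¹ : (R K V)ˣ) : R K V) ((x : R K V) u))) = _
      rw [hix]
    rw [← h3, hx u, g'sub, g'a]
  · intro h
    apply hv0
    apply g.injective
    rw [h, g0]

end

/-- **The abstract form.** -/
theorem five {K : Type u} [Field K] [Finite K] {V : Type v} [AddCommGroup V] [Module K V] [Module.Finite K V]
    {E : Type w} [Field E] [Finite E] [Algebra K E] [Module E V] [IsScalarTower K E V]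
    (b : Cl K V) (hU : b.IsU) (hadj : ∀ a : E, ∃ a' : E, ∀ v w, b.B (a • v) w = b.B v (a' • w))
    (h2 : 2 ≤ Module.finrank E V) (hp : (Module.finrank K E).Prime) (S : Subgroup (Equiv.Perm (R K V)))
    (hS : S ≤ RP K V) (hN : ∀ f ∈ S, Nrm E f) : FiveB b S := by
  haveI : Module.Finite E V := Module.Finite.of_restrictScalars_finite K E V
  haveI : Nontrivial V := by
    by_contra h
    rw [not_nontrivial_iff_subsingleton] at h
    have := Module.finrank_zero_of_subsingleton (R := E) (M := V)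
    omega
  obtain ⟨H⟩ := exists_Hm hU hadj
  obtain ⟨a₀, ha₀⟩ := hU.1
  have hJ : ∃ a, H.J a ≠ a := by
    refine ⟨algebraMap K E a₀, fun h => ha₀ ?_⟩
    rw [H.J_alg] at h
    exact FaithfulSMul.algebraMap_injective K E h
  have ho : Odd (Module.finrank K E) := by
    by_contra hev
    rw [Nat.not_odd_iff_even] at hev
    have he2 : Module.finrank K E = 2 := (hp.even_iff).1 hev
    obtain ⟨τ, hτ, hfix, hit⟩ := exists_frob E K
    rw [he2] at hit
    have h3 : H.J = τ := by
      refine invol_unique H.J_invol (fun a => hit a) hJ ?_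
      by_contra hcon
      push Not at hcon
      have h4 : (⊥ : Subalgebra K E) = ⊤ := by
        rw [eq_top_iff]
        intro x _
        rw [Algebra.mem_bot]
        exact hfix x (hcon x)
      rw [Subalgebra.bot_eq_top_iff_finrank_eq_one] at h4
      omega
    have h5 := H.J_alg a₀
    rw [h3, hτ] at h5
    exact ha₀ (FaithfulSMul.algebraMap_injective K E h5).symm
  obtain ⟨τ, hτ, hfix, hτ1, hτ2⟩ := exists_tau E K ho hp.one_lt.ne'
  obtain ⟨γ, hγ0, hγ⟩ := exists_gen E
  obtain ⟨l, ⟨P⟩⟩ := exists_HB H hJ h2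
  obtain ⟨a, ha⟩ := P.exists_v hJ
  have hγe : ∀ i j, H.h (γ • P.e i) (P.e j) = 0 := fun i j => by rw [H.smul_left, P.ee, mul_zero]
  obtain ⟨x0, x0d, x0i, x0x⟩ := exists_x H P.f P.f hU hτ P.ff P.ff P.ff
  obtain ⟨x1, x1d, x1i, x1x⟩ := exists_x H (fun i => γ • P.e i) P.e hU hτ
    (fun i j => by rw [H.smul_left, H.smul_right, P.ee, mul_zero, mul_zero]) hγe P.ee
  obtain ⟨x2, x2d, x2i, x2x⟩ := exists_x H (fun i : Fin l => P.e i.succ) (fun i => P.e i.castSucc) hU hτ
    (fun i j => P.ee _ _) (fun i j => P.ee _ _) (fun i j => P.ee _ _)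
  obtain ⟨x3, x3d, x3i, x3x⟩ := exists_x H (fun _ : Unit => P.e 0 + a • P.f 0 + P.d)
    (fun _ => P.e 0 + a • P.f 0 + P.d) hU hτ (fun i j => ha) (fun i j => ha) (fun i j => ha)
  have hf0 : P.f 0 ≠ 0 := by
    intro h
    have h1 := P.fe 0 0
    rw [h, H.zero_left, if_pos rfl] at h1
    exact zero_ne_one h1
  have he0 : P.e 0 ≠ 0 := by
    intro h
    have h1 := P.ef 0 0
    rw [h, H.zero_left, if_pos rfl] at h1
    exact zero_ne_one h1
  have hv0 : P.e 0 + a • P.f 0 + P.d ≠ 0 := by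
    intro h
    have h1 : H.h (P.f 0) (P.e 0 + a • P.f 0 + P.d) = 1 := by
      rw [H.add_right, H.add_right, H.smul_right, P.fe, P.ff, P.fd, if_pos rfl, mul_zero, add_zero, add_zero]
    rw [h, H.zero_right] at h1
    exact zero_ne_one h1
  refine ⟨![x0, x1, x2, x3], ?_, ?_, ?_⟩
  · intro i
    fin_cases i
    exacts [x0d, x1d, x2d, x3d]
  · intro i
    fin_cases i
    exacts [x0i, x1i, x2i, x3i]
  · intro f hf hi
    have hi0 := hN _ (hi 0)
    have hi1 := hN _ (hi 1)
    have hi2 := hN _ (hi 2)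
    have hi3 := hN _ (hi 3)
    have hn : 1 ≤ Module.finrank K V := Module.finrank_pos
    obtain ⟨g, ⟨hga, -⟩, hfg⟩ := Cfsg.Agent.H277.FC.stmtSN.{u, v} K V hn f (hS hf)
    obtain ⟨σ, hσ⟩ := semilin (hN f hf) g.surjective hga hfg
    have c0 := comm_of H hτ hτ1 hτ2 x0x hf0 (fun i => P.ff _ _) (fun i => P.ff _ _) hi0 hga hσ hfg
    have c1 := comm_of H hτ hτ1 hτ2 x1x he0 (fun i => P.ee _ _)
      (fun i => by rw [H.smul_right, P.ee, mul_zero]) hi1 hga hσ hfg
    have c2 := comm_of H hτ hτ1 hτ2 x2x he0 (fun i => P.ee _ _) (fun i => P.ee _ _) hi2 hga hσ hfg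
    have c3 := comm_of H hτ hτ1 hτ2 x3x hv0 (fun i => ha) (fun i => ha) hi3 hga hσ hfg
    obtain ⟨k, hk0, hk⟩ := P.final hτ hfix hγ0 hγ g.injective hga hσ c0.1 c0.2 c1.1 c2.1 c2.2 c3.1
    apply Equiv.ext
    intro X
    apply LinearMap.ext
    intro v
    have h1 := hfg X v
    rw [hk, hk, map_smul] at h1
    exact smul_right_injective V hk0 h1

/-- the part of `StmtBC3` for unitary forms and `dim_E V ≥ 2` -/
theorem bc3U : ∀ (K : Type u) [Field K] [Finite K] (V : Type v) [AddCommGroup V] [Module K V] [Module.Finite K V]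
    (b : Cl K V), b.Big → ∀ S : Subgroup (Equiv.Perm (R K V)), S ≤ RB b → Group.IsSolvable S →
    ∀ (E : Subalgebra K (R K V)), IsField E → (Module.finrank K E).Prime →
    (∀ X ∈ E, ∃ Y ∈ E, b.Adj X Y) → (∀ f ∈ S, ∀ X ∈ E, f X ∈ E) → b.IsU →
    Module.finrank K E ≠ Module.finrank K V → FiveB b S := by
  intro K _ _ V _ _ _ b hbig S hS _ E hE hp hadj hnorm hU hne
  letI : Field E := hE.toField
  haveI : Finite (R K V) := Module.finite_of_finite K
  haveI : Finite E := inferInstance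
  have h1 : Module.finrank K E * Module.finrank E V = Module.finrank K V := Module.finrank_mul_finrank K E V
  have hV : 3 ≤ Module.finrank K V := by
    rcases hbig with h | h
    · exact h.2.1
    · omega
  have h2 : 2 ≤ Module.finrank E V := by
    by_contra h
    have h3 : Module.finrank E V = 0 ∨ Module.finrank E V = 1 := by omega
    rcases h3 with h3 | h3
    · rw [h3, mul_zero] at h1
      omega
    · rw [h3, mul_one] at h1
      exact hne h1
  refine five (E := E) b hU ?_ h2 hp S (fun f hf => (hS hf).1) ?_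
  · intro a
    obtain ⟨Y, hY, hY'⟩ := hadj a a.2
    exact ⟨⟨Y, hY⟩, hY'⟩
  · intro f hf a
    have h3 := hnorm f hf a a.2
    refine ⟨⟨_, h3⟩, ?_⟩
    have h4 : ∀ c : E, Algebra.lsmul K K V c = (c : R K V) := fun c => rfl
    rw [h4, h4]

end Cfsg.Agent.H567.FC
end
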